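import Mathlib

/-! # The involution of a free algebra of rank two -/

set_option autoImplicit false

universe u

namespace Groth.Agent.DblCov8

variable (A : Type u) {B : Type u} [CommRing A] [CommRing B] [Algebra A B] [Module.Free A B] [Module.Finite A B]

theorem nontrivial_of_rank (hrk : Module.finrank A B = 2) : Nontrivial A := by
  rcases subsingleton_or_nontrivial A with h | h
  · rw [Module.finrank_subsingleton] at hrk; omega
  · exact h

/-- every element satisfies its characteristic equation -/
theorem sq_eq (hrk : Module.finrank A B = 2) (x : B) :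
    ∃ N : A, x * x - algebraMap A B (Algebra.trace A B x) * x + algebraMap A B N = 0 := by
  haveI := nontrivial_of_rank A hrk
  have CH := LinearMap.aeval_self_charpoly (Algebra.lmul A B x)
  replace CH : Polynomial.aeval x (Algebra.lmul A B x).charpoly = 0 :=
    Algebra.lmul_injective (R := A) (A := B)
      ((Polynomial.aeval_algHom_apply (Algebra.lmul A B) x _).symm.trans (CH.trans (map_zero _).symm))
  have hd : (Algebra.lmul A B x).charpoly.natDegree = 2 := by rw [LinearMap.charpoly_natDegree, hrk]
  have hm := LinearMap.charpoly_monic (Algebra.lmul A B x)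
  rw [Polynomial.aeval_eq_sum_range, hd] at CH
  have h1 : (Algebra.lmul A B x).charpoly.coeff 1 = -Algebra.trace A B x := by
    set b := Module.Free.chooseBasis A B
    have hcard : Fintype.card (Module.Free.ChooseBasisIndex A B) = 2 := by
      rw [← Module.finrank_eq_card_chooseBasisIndex, hrk]
    have : Nonempty (Module.Free.ChooseBasisIndex A B) := Fintype.card_pos_iff.1 (by omega)
    have := Matrix.trace_eq_neg_charpoly_coeff (LinearMap.toMatrix b b (Algebra.lmul A B x))
    rw [LinearMap.charpoly_toMatrix, hcard] at this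
    have ht : Algebra.trace A B x = (LinearMap.toMatrix b b (Algebra.lmul A B x)).trace := by
      rw [← LinearMap.trace_eq_matrix_trace A b]; rfl
    rw [ht, this, neg_neg]
  have h22 : (Algebra.lmul A B x).charpoly.coeff 2 = 1 := by rw [← hd]; exact hm
  refine ⟨(Algebra.lmul A B x).charpoly.coeff 0, ?_⟩
  simp only [Finset.sum_range_succ, Finset.sum_range_zero, zero_add, h1, h22, pow_zero, pow_one,
    Algebra.smul_def, map_one, map_neg, mul_one, one_mul] at CH
  linear_combination CH

/-- `b ↦ tr b - b` -/
noncomputable def sig : B →ₗ[A] B := (Algebra.linearMap A B).comp (Algebra.trace A B) - LinearMap.id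

theorem sig_apply (b : B) : sig A b = algebraMap A B (Algebra.trace A B b) - b := rfl

theorem trace_alg (hrk : Module.finrank A B = 2) (a : A) : Algebra.trace A B (algebraMap A B a) = 2 * a := by
  haveI := nontrivial_of_rank A hrk
  rw [Algebra.trace_algebraMap, hrk, nsmul_eq_mul]; norm_num

theorem sig_mul (h2 : IsUnit (2 : A)) (hrk : Module.finrank A B = 2) (x y : B) : sig A (x * y) = sig A x * sig A y := by
  obtain ⟨Nx, hx⟩ := sq_eq A hrk x
  obtain ⟨Ny, hy⟩ := sq_eq A hrk y
  obtain ⟨Nz, hz⟩ := sq_eq A hrk (x + y)
  rw [map_add, map_add] at hz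
  set tx := Algebra.trace A B x
  set ty := Algebra.trace A B y
  have hp : 2 * (x * y) - algebraMap A B tx * y - algebraMap A B ty * x + algebraMap A B (Nz - Nx - Ny) = 0 := by
    rw [map_sub, map_sub]; linear_combination hz - hx - hy
  have htr := congrArg (Algebra.trace A B) hp
  rw [map_add, map_sub, map_sub, two_mul, map_add, ← Algebra.smul_def tx y, ← Algebra.smul_def ty x, map_smul, map_smul,
    trace_alg A hrk, map_zero, smul_eq_mul, smul_eq_mul] at htr
  have hc : Nz - Nx - Ny = tx * ty - Algebra.trace A B (x * y) := by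
    refine h2.mul_left_cancel ?_
    linear_combination htr
  rw [hc, map_sub, map_mul] at hp
  simp only [sig_apply]
  linear_combination -hp

theorem sig_one (hrk : Module.finrank A B = 2) : sig A (1 : B) = 1 := by
  rw [sig_apply, ← map_one (algebraMap A B), trace_alg A hrk, mul_one, ← map_sub]
  norm_num

/-- the involution -/
noncomputable def sigHom (h2 : IsUnit (2 : A)) (hrk : Module.finrank A B = 2) : B →ₐ[A] B :=
  AlgHom.ofLinearMap (sig A) (sig_one A hrk) (sig_mul A h2 hrk)

theorem sigHom_sq (h2 : IsUnit (2 : A)) (hrk : Module.finrank A B = 2) (b : B) :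
    sigHom A h2 hrk (sigHom A h2 hrk b) = b := by
  show sig A (sig A b) = b
  rw [sig_apply A (sig A b), sig_apply, map_sub, trace_alg A hrk, map_sub, map_mul, map_ofNat]
  ring

theorem mem_range_of_fixed (h2 : IsUnit (2 : A)) (hrk : Module.finrank A B = 2) (b : B)
    (hb : sigHom A h2 hrk b = b) : b ∈ Set.range (algebraMap A B) := by
  obtain ⟨v, hv⟩ := h2.exists_left_inv
  refine ⟨v * Algebra.trace A B b, ?_⟩
  have h : algebraMap A B (Algebra.trace A B b) = 2 * b := by
    have h' : algebraMap A B (Algebra.trace A B b) - b = b := hb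
    linear_combination h'
  have hv' : algebraMap A B v * 2 = 1 := by
    rw [← map_ofNat (algebraMap A B) 2, ← map_mul, hv, map_one]
  rw [map_mul, h]
  linear_combination b * hv'

theorem injective_algebraMap (hrk : Module.finrank A B = 2) (h2 : IsUnit (2 : A)) :
    Function.Injective (algebraMap A B) := fun a a' h => by
  have := congrArg (Algebra.trace A B) h
  rw [trace_alg A hrk, trace_alg A hrk] at this
  exact h2.mul_left_cancel this

theorem sigHom_algebraMap_comm {A' B' : Type u} [CommRing A'] [CommRing B'] [Algebra A' B'] [Module.Free A' B']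
    [Module.Finite A' B'] (h2 : IsUnit (2 : A)) (hrk : Module.finrank A B = 2) (h2' : IsUnit (2 : A'))
    (hrk' : Module.finrank A' B' = 2) (ρ : A →+* A') (φ : B →+* B')
    (hsq : ∀ a, φ (algebraMap A B a) = algebraMap A' B' (ρ a))
    (htr : ∀ b, Algebra.trace A' B' (φ b) = ρ (Algebra.trace A B b)) (b : B) :
    φ (sigHom A h2 hrk b) = sigHom A' h2' hrk' (φ b) := by
  show φ (sig A b) = sig A' (φ b)
  rw [sig_apply, sig_apply, map_sub, hsq, htr]

end Groth.Agent.DblCov8
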