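import Groth.Agent.DblCov8.Ring
import Groth.Agent.SGA1Quot.AffineQuot

/-! # The involution of a double cover -/

set_option autoImplicit false
set_option maxHeartbeats 1000000
set_option backward.isDefEq.respectTransparency false
set_option backward.isDefEq.respectTransparency.types false

universe u

open CategoryTheory CategoryTheory.Limits AlgebraicGeometry TopologicalSpace Opposite

namespace Groth.Agent.DblCov8

variable {X Y : Scheme.{u}} (f : X ⟶ Y)

/-- affine opens over which `f` is free of rank two -/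
structure Good (V : Y.Opens) : Prop where
  affine : IsAffineOpen V
  free : letI := (f.app V).hom.toAlgebra; Module.Free Γ(Y, V) Γ(X, f ⁻¹ᵁ V)
  rank : letI := (f.app V).hom.toAlgebra; Module.finrank Γ(Y, V) Γ(X, f ⁻¹ᵁ V) = 2

variable [IsFinite f]

theorem finite_app {V : Y.Opens} (hV : IsAffineOpen V) :
    letI := (f.app V).hom.toAlgebra; Module.Finite Γ(Y, V) Γ(X, f ⁻¹ᵁ V) :=
  f.finite_app V hV

theorem isLocalizedModule_basicOpen {V : Y.Opens} (hV : IsAffineOpen V) (r : Γ(Y, V)) :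
    letI := (f.app V).hom.toAlgebra
    IsLocalization.Away r Γ(Y, Y.basicOpen r) ∧
      IsLocalization.Away (algebraMap Γ(Y, V) Γ(X, f ⁻¹ᵁ V) r) Γ(X, X.basicOpen (f.app V r)) :=
  ⟨hV.isLocalization_basicOpen r, (hV.preimage f).isLocalization_basicOpen _⟩

/-- the localisation data -/
theorem loc_data {V : Y.Opens} (hV : Good f V) (r : Γ(Y, V)) (hne : Nontrivial Γ(Y, Y.basicOpen r)) :
    ∃ hW : Good f (Y.basicOpen r),
      ∀ (h2 : IsUnit (2 : Γ(Y, V))) (b : Γ(X, f ⁻¹ᵁ V)),
        letI := (f.app V).hom.toAlgebra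
        letI := (f.app (Y.basicOpen r)).hom.toAlgebra
        Algebra.trace Γ(Y, Y.basicOpen r) Γ(X, f ⁻¹ᵁ Y.basicOpen r)
            (X.presheaf.map (homOfLE (f.preimage_mono (Y.basicOpen_le r))).op b) =
          Y.presheaf.map (homOfLE (Y.basicOpen_le r)).op (Algebra.trace Γ(Y, V) Γ(X, f ⁻¹ᵁ V) b) := by
  let W := Y.basicOpen r
  let A := Γ(Y, V)
  let B := Γ(X, f ⁻¹ᵁ V)
  let A' := Γ(Y, W)
  let B' := Γ(X, f ⁻¹ᵁ W)
  algebraize [(f.app V).hom, (f.app W).hom]
  letI : Algebra A A' := (Y.presheaf.map (homOfLE (Y.basicOpen_le r)).op).hom.toAlgebra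
  letI : Algebra B B' := (X.presheaf.map (homOfLE (f.preimage_mono (Y.basicOpen_le r))).op).hom.toAlgebra
  letI : Algebra A B' := ((algebraMap B B').comp (algebraMap A B)).toAlgebra
  haveI : IsScalarTower A B B' := .of_algebraMap_eq' rfl
  haveI : IsScalarTower A A' B' := .of_algebraMap_eq' (congrArg CommRingCat.Hom.hom (f.naturality (homOfLE (Y.basicOpen_le r)).op)).symm
  haveI : IsLocalization.Away r A' := hV.affine.isLocalization_basicOpen r
  haveI : IsLocalization (Algebra.algebraMapSubmonoid B (Submonoid.powers r)) B' := by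
    rw [Algebra.algebraMapSubmonoid_powers]
    have key : ∀ (O : X.Opens) (hO : O = X.basicOpen (f.app V r)) (h : O ≤ f ⁻¹ᵁ V),
        @IsLocalization _ _ (Submonoid.powers (f.app V r)) Γ(X, O) _ (X.presheaf.map (homOfLE h).op).hom.toAlgebra := by
      intro O hO h
      subst hO
      exact (hV.affine.preimage f).isLocalization_basicOpen _
    exact key _ (Scheme.preimage_basicOpen f r) _
  haveI : Module.Free A B := hV.free
  haveI : Module.Finite A B := finite_app f hV.affine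
  haveI := nontrivial_of_rank A hV.rank
  have hfree : Module.Free A' B' ∧ (Nontrivial A' → Module.finrank A' B' = 2) := by
    let b := (Module.Free.chooseBasis A B).localizationLocalization A' (Submonoid.powers r) B'
    refine ⟨Module.Free.of_basis b, fun _ => ?_⟩
    rw [Module.finrank_eq_card_basis b, ← Module.finrank_eq_card_chooseBasisIndex]
    exact hV.rank
  refine ⟨⟨hV.affine.basicOpen r, hfree.1, hfree.2 hne⟩, fun _ b => ?_⟩
  exact Algebra.trace_localization A (Submonoid.powers r) (Rₘ := A') (Sₘ := B') b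

/-- the involution over a good open -/
noncomputable def sigma {V : Y.Opens} (hV : Good f V) (h2 : IsUnit (2 : Γ(Y, V))) :
    Γ(X, f ⁻¹ᵁ V) →+* Γ(X, f ⁻¹ᵁ V) :=
  letI := (f.app V).hom.toAlgebra
  haveI : Module.Free Γ(Y, V) Γ(X, f ⁻¹ᵁ V) := hV.free
  haveI : Module.Finite Γ(Y, V) Γ(X, f ⁻¹ᵁ V) := finite_app f hV.affine
  (sigHom Γ(Y, V) h2 hV.rank).toRingHom

theorem sigma_app {V : Y.Opens} (hV : Good f V) (h2 : IsUnit (2 : Γ(Y, V))) (a : Γ(Y, V)) :
    sigma f hV h2 (f.app V a) = f.app V a :=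
  letI := (f.app V).hom.toAlgebra
  haveI : Module.Free Γ(Y, V) Γ(X, f ⁻¹ᵁ V) := hV.free
  haveI : Module.Finite Γ(Y, V) Γ(X, f ⁻¹ᵁ V) := finite_app f hV.affine
  (sigHom Γ(Y, V) h2 hV.rank).commutes a

theorem sigma_sq {V : Y.Opens} (hV : Good f V) (h2 : IsUnit (2 : Γ(Y, V))) (b : Γ(X, f ⁻¹ᵁ V)) :
    sigma f hV h2 (sigma f hV h2 b) = b :=
  letI := (f.app V).hom.toAlgebra
  haveI : Module.Free Γ(Y, V) Γ(X, f ⁻¹ᵁ V) := hV.free
  haveI : Module.Finite Γ(Y, V) Γ(X, f ⁻¹ᵁ V) := finite_app f hV.affine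
  sigHom_sq Γ(Y, V) h2 hV.rank b

theorem isUnit_two (h2 : IsUnit (2 : Γ(Y, ⊤))) (V : Y.Opens) : IsUnit (2 : Γ(Y, V)) := by
  have := h2.map (Y.presheaf.map (homOfLE (le_top : V ≤ ⊤)).op).hom
  rwa [map_ofNat] at this

/-- over a good open, the candidate involution followed by the inclusion -/
noncomputable def piece (h2 : IsUnit (2 : Γ(Y, ⊤))) {V : Y.Opens} (hV : Good f V) : Spec Γ(X, f ⁻¹ᵁ V) ⟶ X :=
  Spec.map (CommRingCat.ofHom (sigma f hV (isUnit_two h2 V))) ≫ (hV.affine.preimage f).fromSpec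

theorem piece_res (h2 : IsUnit (2 : Γ(Y, ⊤))) {V W : Y.Opens} (hV : Good f V) (hW : Good f W) (r : Γ(Y, V))
    (hr : W = Y.basicOpen r) (hne : Nontrivial Γ(Y, W)) (hle : W ≤ V) :
    Spec.map (X.presheaf.map (homOfLE (f.preimage_mono hle)).op) ≫ piece f h2 hV = piece f h2 hW := by
  subst hr
  obtain ⟨-, htr⟩ := loc_data f hV r hne
  simp only [piece]
  rw [← (hV.affine.preimage f).map_fromSpec (hW.affine.preimage f) (homOfLE (f.preimage_mono hle)).op,
    ← Spec.map_comp_assoc, ← Spec.map_comp_assoc]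
  congr 2
  ext b
  show X.presheaf.map (homOfLE (f.preimage_mono hle)).op (sigma f hV (isUnit_two h2 V) b) =
    sigma f hW (isUnit_two h2 _) (X.presheaf.map (homOfLE (f.preimage_mono hle)).op b)
  letI := (f.app V).hom.toAlgebra
  letI := (f.app (Y.basicOpen r)).hom.toAlgebra
  haveI : Module.Free Γ(Y, V) Γ(X, f ⁻¹ᵁ V) := hV.free
  haveI : Module.Finite Γ(Y, V) Γ(X, f ⁻¹ᵁ V) := finite_app f hV.affine
  haveI : Module.Free Γ(Y, Y.basicOpen r) Γ(X, f ⁻¹ᵁ Y.basicOpen r) := hW.free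
  haveI : Module.Finite Γ(Y, Y.basicOpen r) Γ(X, f ⁻¹ᵁ Y.basicOpen r) := finite_app f hW.affine
  exact sigHom_algebraMap_comm Γ(Y, V) _ hV.rank _ hW.rank
    (Y.presheaf.map (homOfLE hle).op).hom (X.presheaf.map (homOfLE (f.preimage_mono hle)).op).hom
    (fun a => (ConcreteCategory.congr_hom (f.naturality (homOfLE hle).op) a).symm) (htr (isUnit_two h2 V)) b

theorem exists_good [Flat f] [LocallyOfFinitePresentation f] (hrk : ∀ y : Y, f.finrank y = 2) (y : Y) :
    ∃ V : Y.Opens, y ∈ V ∧ Good f V := by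
  obtain ⟨_, ⟨V, hV, rfl⟩, hyV, -⟩ :=
    Y.isBasis_affineOpens.exists_subset_of_mem_open (Set.mem_univ y) isOpen_univ
  algebraize [(f.app V).hom]
  haveI : Module.Finite Γ(Y, V) Γ(X, f ⁻¹ᵁ V) := finite_app f hV
  haveI : Module.Flat Γ(Y, V) Γ(X, f ⁻¹ᵁ V) := by
    have := f.flat_appLE hV (hV.preimage f) le_rfl
    rw [← Scheme.Hom.app_eq_appLE] at this
    exact this
  haveI : Algebra.FinitePresentation Γ(Y, V) Γ(X, f ⁻¹ᵁ V) := by
    have := f.finitePresentation_appLE hV (hV.preimage f) le_rfl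
    rw [← Scheme.Hom.app_eq_appLE] at this
    exact this
  haveI := Module.FinitePresentation.of_finite_of_finitePresentation (R := Γ(Y, V)) (S := Γ(X, f ⁻¹ᵁ V))
  let p := hV.primeIdealOf ⟨y, hyV⟩
  have hp : Module.rankAtStalk Γ(X, f ⁻¹ᵁ V) p = 2 := by
    have sq : IsPullback (hV.preimage f).fromSpec (Spec.map (f.app V)) f hV.fromSpec := by
      refine (IsOpenImmersion.isPullback _ _ _ _ ?_ ?_).flip
      · rw [Scheme.Hom.app_eq_appLE, IsAffineOpen.SpecMap_appLE_fromSpec]
      · rw [IsAffineOpen.opensRange_fromSpec, IsAffineOpen.opensRange_fromSpec]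
    have h := Scheme.Hom.finrank_of_isPullback _ _ _ _ sq p
    rw [hV.fromSpec_primeIdealOf, hrk] at h
    rw [← h]
    exact (Scheme.Hom.finrank_SpecMap_algebraMap Γ(Y, V) Γ(X, f ⁻¹ᵁ V) p).symm
  haveI : Module.Free (Localization.AtPrime p.asIdeal) (LocalizedModule.AtPrime p.asIdeal Γ(X, f ⁻¹ᵁ V)) :=
    Module.free_of_flat_of_isLocalRing
  obtain ⟨r, hr, hfree, hfr⟩ := Module.FinitePresentation.exists_free_localizedModule_powers p.asIdeal.primeCompl
    (LocalizedModule.mkLinearMap p.asIdeal.primeCompl Γ(X, f ⁻¹ᵁ V)) (Localization.AtPrime p.asIdeal)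
  have hyr : y ∈ Y.basicOpen r := by
    have h' : p ∈ PrimeSpectrum.basicOpen r := hr
    rw [← hV.fromSpec_preimage_basicOpen] at h'
    have h'' : hV.fromSpec p ∈ Y.basicOpen r := h'
    rwa [hV.fromSpec_primeIdealOf] at h''
  suffices h : letI := (f.app (Y.basicOpen r)).hom.toAlgebra; Module.Free Γ(Y, Y.basicOpen r) Γ(X, f ⁻¹ᵁ Y.basicOpen r) ∧
      Module.finrank Γ(Y, Y.basicOpen r) Γ(X, f ⁻¹ᵁ Y.basicOpen r) = 2 from
    ⟨Y.basicOpen r, hyr, ⟨hV.basicOpen r, h.1, h.2⟩⟩
  haveI : Nonempty (Y.basicOpen r : Scheme.{u}) := ⟨⟨y, hyr⟩⟩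
  let W := Y.basicOpen r
  let A := Γ(Y, V)
  let B := Γ(X, f ⁻¹ᵁ V)
  let A' := Γ(Y, W)
  let B' := Γ(X, f ⁻¹ᵁ W)
  algebraize [(f.app W).hom]
  letI : Algebra A A' := (Y.presheaf.map (homOfLE (Y.basicOpen_le r)).op).hom.toAlgebra
  letI : Algebra B B' := (X.presheaf.map (homOfLE (f.preimage_mono (Y.basicOpen_le r))).op).hom.toAlgebra
  letI : Algebra A B' := ((algebraMap B B').comp (algebraMap A B)).toAlgebra
  haveI : IsScalarTower A B B' := .of_algebraMap_eq' rfl
  haveI : IsScalarTower A A' B' := .of_algebraMap_eq' (congrArg CommRingCat.Hom.hom (f.naturality (homOfLE (Y.basicOpen_le r)).op)).symm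
  haveI : IsLocalization.Away r A' := hV.isLocalization_basicOpen r
  haveI : IsLocalization (Algebra.algebraMapSubmonoid B (Submonoid.powers r)) B' := by
    rw [Algebra.algebraMapSubmonoid_powers]
    have key : ∀ (O : X.Opens) (hO : O = X.basicOpen (f.app V r)) (h : O ≤ f ⁻¹ᵁ V),
        @IsLocalization _ _ (Submonoid.powers (f.app V r)) Γ(X, O) _ (X.presheaf.map (homOfLE h).op).hom.toAlgebra := by
      intro O hO h
      subst hO
      exact (hV.preimage f).isLocalization_basicOpen _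
    exact key _ (Scheme.preimage_basicOpen f r) _
  haveI : IsLocalizedModule (Submonoid.powers r) (IsScalarTower.toAlgHom A B B').toLinearMap :=
    isLocalizedModule_iff_isLocalization.mpr inferInstance
  let e := IsLocalizedModule.linearEquiv (Submonoid.powers r)
    (LocalizedModule.mkLinearMap (Submonoid.powers r) B) (IsScalarTower.toAlgHom A B B').toLinearMap
  let φ : Localization (Submonoid.powers r) ≃ₐ[A] A' := IsLocalization.algEquiv (Submonoid.powers r) _ _
  letI : Module (Localization (Submonoid.powers r)) B' := Module.compHom B' (φ : Localization (Submonoid.powers r) →+* A')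
  haveI : IsScalarTower A (Localization (Submonoid.powers r)) B' := .of_algebraMap_smul fun a x => by
    show φ (algebraMap A _ a) • x = a • x
    rw [φ.commutes, algebraMap_smul]
  let e' : LocalizedModule (Submonoid.powers r) B ≃ₗ[Localization (Submonoid.powers r)] B' :=
    e.extendScalarsOfIsLocalization (Submonoid.powers r) _
  let b := ((Module.Free.chooseBasis (Localization (Submonoid.powers r)) (LocalizedModule (Submonoid.powers r) B)).map e').mapCoeffs
    φ.toRingEquiv (fun c x => rfl)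
  haveI : Nontrivial A' := inferInstance
  haveI : Nontrivial (Localization (Submonoid.powers r)) := φ.toRingEquiv.toEquiv.nontrivial
  haveI : Module.Finite (Localization (Submonoid.powers r)) (LocalizedModule (Submonoid.powers r) B) :=
    Module.Finite.of_isLocalizedModule (Submonoid.powers r) (LocalizedModule.mkLinearMap (Submonoid.powers r) B)
  refine ⟨Module.Free.of_basis b, ?_⟩
  rw [Module.finrank_eq_card_basis b, ← Module.finrank_eq_card_chooseBasisIndex]
  rw [hfr]
  exact hp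

theorem exists_involution [Flat f] [LocallyOfFinitePresentation f] (hrk : ∀ y : Y, f.finrank y = 2)
    (h2 : IsUnit (2 : Γ(Y, ⊤))) :
    ∃ σ : Aut X, σ.hom ≫ f = f ∧ σ * σ = 1 ∧ SGA1.IsQuot (Subgroup.zpowers σ).subtype f := by
  choose V hyV hV using exists_good f hrk
  let U : ∀ y : Y, IsAffineOpen (f ⁻¹ᵁ V y) := fun y => (hV y).affine.preimage f
  let 𝒰 : X.OpenCover :=
    { I₀ := Y
      X := fun y => Spec Γ(X, f ⁻¹ᵁ V y)
      f := fun y => (U y).fromSpec
      mem₀ := by
        rw [Scheme.presieve₀_mem_precoverage_iff]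
        refine ⟨fun x => ⟨f x, ?_⟩, fun y => inferInstance⟩
        exact (U (f x)).range_fromSpec.ge (hyV (f x)) }
  have compat : ∀ i j : Y, pullback.fst (U i).fromSpec (U j).fromSpec ≫ piece f h2 (hV i) =
      pullback.snd (U i).fromSpec (U j).fromSpec ≫ piece f h2 (hV j) := by
    intro i j
    let P := pullback (U i).fromSpec (U j).fromSpec
    let m : P ⟶ X := pullback.fst (U i).fromSpec (U j).fromSpec ≫ (U i).fromSpec
    have hm : ∀ z : P, f (m z) ∈ V i ⊓ V j := fun z => by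
      refine ⟨(U i).range_fromSpec.le ⟨_, rfl⟩, ?_⟩
      have e : m = pullback.snd _ _ ≫ (U j).fromSpec := pullback.condition
      rw [e]
      exact (U j).range_fromSpec.le ⟨_, rfl⟩
    choose ri rj heq hz using fun z => exists_basicOpen_le_affine_inter (hV i).affine (hV j).affine (f (m z)) (hm z)
    have hne : ∀ z, Nontrivial Γ(Y, Y.basicOpen (ri z)) := fun z =>
      haveI : Nonempty (Y.basicOpen (ri z) : Scheme.{u}) := ⟨⟨_, hz z⟩⟩
      inferInstance
    have hW : ∀ z, Good f (Y.basicOpen (ri z)) := fun z => (loc_data f (hV i) (ri z) (hne z)).1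
    have hWi : ∀ z, Y.basicOpen (ri z) ≤ V i := fun z => Y.basicOpen_le _
    have hWj : ∀ z, Y.basicOpen (ri z) ≤ V j := fun z => (heq z).trans_le (Y.basicOpen_le _)
    let q : ∀ z, Spec Γ(X, f ⁻¹ᵁ Y.basicOpen (ri z)) ⟶ P := fun z =>
      pullback.lift (Spec.map (X.presheaf.map (homOfLE (f.preimage_mono (hWi z))).op))
        (Spec.map (X.presheaf.map (homOfLE (f.preimage_mono (hWj z))).op))
        (by rw [(U i).map_fromSpec ((hW z).affine.preimage f), (U j).map_fromSpec ((hW z).affine.preimage f)])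
    have hqm : ∀ z, q z ≫ m = ((hW z).affine.preimage f).fromSpec := fun z => by
      rw [pullback.lift_fst_assoc, (U i).map_fromSpec ((hW z).affine.preimage f)]
    haveI : IsOpenImmersion m := inferInstance
    haveI : ∀ z, IsOpenImmersion (q z) := fun z => by
      haveI : IsOpenImmersion (q z ≫ m) := by rw [hqm]; infer_instance
      exact IsOpenImmersion.of_comp (q z) m
    let 𝒲 : P.OpenCover :=
      { I₀ := P
        X := fun z => Spec Γ(X, f ⁻¹ᵁ Y.basicOpen (ri z))
        f := q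
        mem₀ := by
          rw [Scheme.presieve₀_mem_precoverage_iff]
          refine ⟨fun z => ⟨z, ?_⟩, fun z => inferInstance⟩
          obtain ⟨w, hw⟩ := ((hW z).affine.preimage f).range_fromSpec.ge (show m z ∈ f ⁻¹ᵁ Y.basicOpen (ri z) from hz z)
          refine ⟨w, m.isOpenEmbedding.injective ?_⟩
          rw [← Scheme.Hom.comp_apply, hqm]
          exact hw }
    refine Scheme.Cover.hom_ext 𝒲 _ _ fun z => ?_
    show q z ≫ _ = q z ≫ _
    rw [pullback.lift_fst_assoc, pullback.lift_snd_assoc, piece_res f h2 (hV i) (hW z) (ri z) rfl (hne z) (hle := hWi z),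
      piece_res f h2 (hV j) (hW z) (rj z) (heq z) (hne z) (hle := hWj z)]
  let s : X ⟶ X := 𝒰.glueMorphisms (fun y => piece f h2 (hV y)) compat
  have hs : ∀ y, (U y).fromSpec ≫ s = piece f h2 (hV y) := fun y => 𝒰.ι_glueMorphisms _ compat y
  have hsq : s ≫ s = 𝟙 X := by
    refine Scheme.Cover.hom_ext 𝒰 _ _ fun y => ?_
    show (U y).fromSpec ≫ s ≫ s = (U y).fromSpec ≫ 𝟙 X
    rw [← Category.assoc, hs, piece, Category.assoc, hs, piece, ← Category.assoc, ← Spec.map_comp, Category.comp_id]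
    have e : CommRingCat.ofHom (sigma f (hV y) (isUnit_two h2 _)) ≫ CommRingCat.ofHom (sigma f (hV y) (isUnit_two h2 _)) =
        𝟙 Γ(X, f ⁻¹ᵁ V y) := by
      ext b
      exact sigma_sq f (hV y) (isUnit_two h2 _) b
    erw [e, Spec.map_id, Category.id_comp]
  have hf : s ≫ f = f := by
    refine Scheme.Cover.hom_ext 𝒰 _ _ fun y => ?_
    show (U y).fromSpec ≫ s ≫ f = (U y).fromSpec ≫ f
    rw [← Category.assoc, hs, piece, Category.assoc,
      ← IsAffineOpen.SpecMap_appLE_fromSpec f (hV y).affine (U y) le_rfl, ← Category.assoc, ← Spec.map_comp]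
    congr 2
    ext a
    show sigma f (hV y) (isUnit_two h2 _) (f.appLE (V y) (f ⁻¹ᵁ V y) le_rfl a) = _
    rw [← Scheme.Hom.app_eq_appLE]
    exact sigma_app f (hV y) (isUnit_two h2 _) a
  have happ : ∀ (y : Y) (e : f ⁻¹ᵁ V y ≤ s ⁻¹ᵁ (f ⁻¹ᵁ V y)) (b : Γ(X, f ⁻¹ᵁ V y)),
      s.appLE _ _ e b = sigma f (hV y) (isUnit_two h2 _) b := by
    intro y e b
    have h1 := IsAffineOpen.SpecMap_appLE_fromSpec s (U y) (U y) e
    rw [hs, piece, cancel_mono] at h1
    rw [Spec.map_injective h1]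
    rfl
  let σ : Aut X := ⟨s, s, hsq, hsq⟩
  have hσσ : σ * σ = 1 := Aut.ext hsq
  refine ⟨σ, hf, hσσ, ?_⟩
  haveI : Finite (Subgroup.zpowers σ) := by
    have : IsOfFinOrder σ := isOfFinOrder_iff_pow_eq_one.mpr ⟨2, two_pos, by rw [pow_two, hσσ]⟩
    exact (IsOfFinOrder.finite_zpowers this).to_subtype
  have hinv : ∀ g : Subgroup.zpowers σ, ((Subgroup.zpowers σ).subtype g).hom ≫ f = f := by
    rintro ⟨g, hg⟩
    let T : Subgroup (Aut X) :=
      { carrier := {t | t.hom ≫ f = f}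
        mul_mem' := fun {a b} ha hb => by
          simp only [Set.mem_setOf_eq] at ha hb ⊢
          show (b.hom ≫ a.hom) ≫ f = f
          rw [Category.assoc, ha, hb]
        one_mem' := Category.id_comp f
        inv_mem' := fun {a} ha => by
          simp only [Set.mem_setOf_eq] at ha ⊢
          show a.inv ≫ f = f
          rw [Iso.inv_comp_eq, ha] }
    exact (Subgroup.zpowers_le.mpr (show σ ∈ T from hf)) hg
  refine SGA1Quot.isQuot_of_cover _ f hinv V (fun y => (hV y).affine) (fun y => ⟨y, hyV y⟩) (fun y => ?_) (fun y b hb => ?_)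
  · letI := (f.app (V y)).hom.toAlgebra
    haveI : Module.Free Γ(Y, V y) Γ(X, f ⁻¹ᵁ V y) := (hV y).free
    haveI : Module.Finite Γ(Y, V y) Γ(X, f ⁻¹ᵁ V y) := finite_app f (hV y).affine
    exact injective_algebraMap Γ(Y, V y) (hV y).rank (isUnit_two h2 _)
  · letI := (f.app (V y)).hom.toAlgebra
    haveI : Module.Free Γ(Y, V y) Γ(X, f ⁻¹ᵁ V y) := (hV y).free
    haveI : Module.Finite Γ(Y, V y) Γ(X, f ⁻¹ᵁ V y) := finite_app f (hV y).affine
    have h1 := hb ⟨σ⁻¹, Subgroup.inv_mem _ (Subgroup.mem_zpowers σ)⟩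
    change (((Subgroup.zpowers σ).subtype (⟨σ⁻¹, _⟩ : Subgroup.zpowers σ)⁻¹).hom).appLE _ _ _ b = b at h1
    have key : ∀ (t : X ⟶ X) (_ : t = s) (e : f ⁻¹ᵁ V y ≤ t ⁻¹ᵁ (f ⁻¹ᵁ V y)),
        t.appLE _ _ e b = sigma f (hV y) (isUnit_two h2 _) b := by
      intro t ht e
      subst ht
      exact happ y e b
    rw [key _ (by rw [map_inv]; simp [σ]; try rfl)] at h1
    exact mem_range_of_fixed Γ(Y, V y) (isUnit_two h2 _) (hV y).rank b h1

end Groth.Agent.DblCov8
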